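import Cfsg.Agent.H837.E83.NM11
import Cfsg.Agent.H828.E83.Rel

/-!
# S5925 box N3 (continued): the cosets of `S = ⟨x, y, t⟩ = L₂(11)` in `M11` (helper837)

`rp v j = x^j f` (`j = 0, …, 10`), `rp v 11 = 1` are representatives of the 12 cosets of `S`; `g * rp v j ∈ rp v (ev w j) * S`
for `g` the value of the word `w`.
-/

set_option autoImplicit false

namespace Cfsg.Agent.H837.E83.NM11

open Cfsg

/-- the words of the representatives of the cosets of `⟨x, y, t⟩` -/
def rw' (j : ℕ) : List ℕ := if j < 11 then List.replicate j 0 ++ [3] else []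

/-- the words of the elements `s` -/
def sw : ℕ → List (List ℕ)
  | 0 => [[], [], [], [], [], [], [], [], [], [], [], [0]]
  | 1 => [[1, 1, 1], [1, 1, 1], [1, 1, 1], [1, 1, 1], [1, 1, 1], [1, 1, 1], [1, 1, 1], [1, 1, 1], [1, 1, 1], [1, 1, 1],
    [1, 1, 1], [1]]
  | 2 => [[2], [0, 0, 2, 0, 0, 0, 2, 0], [1, 0, 0, 2, 0], [0, 1, 0, 2, 0, 0, 1, 1, 1], [0, 2, 0, 1, 1, 0],
    [0, 1, 1, 0, 1, 2, 0, 2], [2, 0, 0, 2, 0, 1, 2], [0, 0, 1, 2, 0, 0, 0], [1, 2, 0, 0, 2, 0, 2],
    [1, 0, 1, 1, 2, 0, 0], [1, 1, 0, 0, 2, 0, 1], [2]]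
  | 3 => [[2], [0, 1, 0, 2, 0, 1, 0], [2, 1, 0, 1, 1], [0, 2, 1, 0, 0, 0], [0, 0, 1, 0, 2, 0], [0, 1, 2, 0, 1, 2, 0],
    [1, 2, 0, 0, 0], [1, 2, 0, 1], [2, 1, 1, 0], [0, 0, 0, 2, 1, 0, 1], [2, 0, 0, 1, 0], []]
  | _ => []

theorem sw_ok : ∀ l : Fin 5, ∀ j : Fin 12, eqP ((l : ℕ) :: rw' j) (rw' (ap l j) ++ (sw l).getD j []) = true ∧
    ∀ i ∈ (sw l).getD j [], i = 0 ∨ i = 1 ∨ i = 2 := by
  decide +kernel

/-- the representatives -/
def rp {H : Type*} [Group H] (v : ℕ → H) (j : ℕ) : H := if j < 11 then v 0 ^ j * v 3 else 1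

theorem rp_eq {H : Type*} [Group H] (v : ℕ → H) (j : ℕ) : rp v j = ((rw' j).map v).prod := by
  unfold rp rw'
  split
  · rw [List.map_append, List.map_replicate, List.prod_append, List.prod_replicate]
    simp
  · rfl

theorem prod_mem_S {H : Type*} [Group H] {v : ℕ → H} {w : List ℕ} (hw : ∀ i ∈ w, i = 0 ∨ i = 1 ∨ i = 2) :
    (w.map v).prod ∈ Subgroup.closure {v 0, v 1, v 2} := by
  refine list_prod_mem (fun g hg => ?_)
  obtain ⟨l, hl, rfl⟩ := List.mem_map.1 hg
  refine Subgroup.subset_closure ?_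
  rcases hw l hl with rfl | rfl | rfl
  · exact Or.inl rfl
  · exact Or.inr (Or.inl rfl)
  · exact Or.inr (Or.inr rfl)

namespace M11Gen

variable {H : Type*} [Group H] {v : ℕ → H} (h : M11Gen v)

include h

/-- the relations of `L₂(11)` -/
theorem rel3 : H828.E83.Rel (v 0) (v 1) (v 2) where
  x11 := h.x_pow
  x1 := h.x_ne
  y5 := h.y_pow
  y1 := h.y_ne
  yx := h.y_x
  tt := h.t_sq
  ty := by
    rw [show (v 2)⁻¹ = v 2 from inv_eq_of_mul_eq_one_right h.t_sq]
    exact h.t_y
  xt := by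
    have h1 := h.xt
    rw [pow_succ, pow_two] at h1
    exact h1

/-- the letters on the cosets -/
theorem step (l : ℕ) {j : ℕ} (hj : j < 12) :
    ∃ s ∈ Subgroup.closure {v 0, v 1, v 2}, v l * rp v j = rp v (ap l j) * s := by
  rcases Nat.lt_or_ge l 5 with h1 | h1
  · obtain ⟨h2, h3⟩ := sw_ok ⟨l, h1⟩ ⟨j, hj⟩
    refine ⟨_, prod_mem_S (v := v) h3, ?_⟩
    have h4 := h.eq _ _ h2
    rw [List.map_cons, List.prod_cons, List.map_append, List.prod_append, ← rp_eq, ← rp_eq] at h4
    exact h4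
  · have h2 : ap l j = j := by
      obtain ⟨n, rfl⟩ := Nat.exists_eq_add_of_le' h1
      have h3 : ∀ j : Fin 12, ap 5 j = j := by decide +kernel
      exact h3 ⟨j, hj⟩
    exact ⟨1, Subgroup.one_mem _, by rw [h.triv l (by omega), one_mul, mul_one, h2]⟩

/-- **the words on the cosets** -/
theorem step_word (w : List ℕ) {j : ℕ} (hj : j < 12) :
    ∃ s ∈ Subgroup.closure {v 0, v 1, v 2}, (w.map v).prod * rp v j = rp v (ev w j) * s := by
  induction w with
  | nil => exact ⟨1, Subgroup.one_mem _, by simp [ev]⟩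
  | cons l w ih =>
    obtain ⟨s, hs, h1⟩ := ih
    obtain ⟨s', hs', h2⟩ := h.step l (ev_lt w hj)
    refine ⟨s' * s, mul_mem hs' hs, ?_⟩
    rw [List.map_cons, List.prod_cons, mul_assoc, h1, ← mul_assoc, h2, mul_assoc]
    rfl

/-- `S` is the stabiliser of the point `∞ = 11` -/
theorem ev_of_mem {w : List ℕ} (hw : (w.map v).prod ∈ Subgroup.closure {v 0, v 1, v 2}) : ev w 11 = 11 := by
  have key : ∀ g ∈ Subgroup.closure {v 0, v 1, v 2}, ∀ w : List ℕ, (w.map v).prod = g → ev w 11 = 11 := by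
    intro g hg
    have hx : v 0 ^ 11 = 1 := h.x_pow
    have hfin : ∀ a ∈ ({v 0, v 1, v 2} : Set H), ∃ l : ℕ, (l = 0 ∨ l = 1 ∨ l = 2) ∧ a = v l := by
      rintro a (rfl | rfl | rfl)
      · exact ⟨0, Or.inl rfl, rfl⟩
      · exact ⟨1, Or.inr (Or.inl rfl), rfl⟩
      · exact ⟨2, Or.inr (Or.inr rfl), rfl⟩
    -- every element of the closure is the value of a word in the letters 0, 1, 2
    have hword : ∃ u : List ℕ, (∀ i ∈ u, i = 0 ∨ i = 1 ∨ i = 2) ∧ (u.map v).prod = g := by
      induction hg using Subgroup.closure_induction with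
      | mem g hg =>
        obtain ⟨l, hl, rfl⟩ := hfin g hg
        exact ⟨[l], by simpa using hl, by simp⟩
      | one => exact ⟨[], by simp, rfl⟩
      | mul a b _ _ ha hb =>
        obtain ⟨u, hu, rfl⟩ := ha
        obtain ⟨u', hu', rfl⟩ := hb
        refine ⟨u ++ u', fun l hl => ?_, by rw [List.map_append, List.prod_append]⟩
        rcases List.mem_append.1 hl with h1 | h1
        · exact hu l h1
        · exact hu' l h1
      | inv a hm ha =>
        clear hm
        obtain ⟨u, hu, rfl⟩ := ha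
        have hinv : ∀ l, (l = 0 ∨ l = 1 ∨ l = 2) → ∃ u : List ℕ, (∀ i ∈ u, i = 0 ∨ i = 1 ∨ i = 2) ∧
            (u.map v).prod = (v l)⁻¹ := by
          rintro l (rfl | rfl | rfl)
          · refine ⟨List.replicate 10 0, fun i hi => Or.inl (List.eq_of_mem_replicate hi), ?_⟩
            rw [List.map_replicate, List.prod_replicate, eq_inv_iff_mul_eq_one, ← pow_succ, h.x_pow]
          · refine ⟨List.replicate 4 1, fun i hi => Or.inr (Or.inl (List.eq_of_mem_replicate hi)), ?_⟩
            rw [List.map_replicate, List.prod_replicate, eq_inv_iff_mul_eq_one, ← pow_succ, h.y_pow]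
          · refine ⟨[2], by simp, ?_⟩
            simpa [eq_inv_iff_mul_eq_one] using h.t_sq
        clear hw hfin hx
        induction u with
        | nil => exact ⟨[], by simp, by simp⟩
        | cons l u ih =>
          obtain ⟨u1, h1, h2⟩ := ih (fun i hi => hu i (List.mem_cons_of_mem _ hi))
          obtain ⟨u2, h3, h4⟩ := hinv l (hu l List.mem_cons_self)
          refine ⟨u1 ++ u2, fun i hi => ?_, ?_⟩
          · rcases List.mem_append.1 hi with h5 | h5
            · exact h1 i h5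
            · exact h3 i h5
          · rw [List.map_append, List.prod_append, h2, h4, List.map_cons, List.prod_cons, mul_inv_rev]
    obtain ⟨u, hu, hug⟩ := hword
    intro w hw'
    have h1 : ev w 11 = ev u 11 := by
      have h2 := (h.rel w u).2 (hw'.trans hug.symm)
      exact beq_iff_eq.1 (List.all_eq_true.1 h2 11 (by decide))
    rw [h1]
    clear h1 hug
    induction u with
    | nil => rfl
    | cons l u ih =>
      have h3 : ev u 11 = 11 := ih (fun i hi => hu i (List.mem_cons_of_mem _ hi))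
      have h4 : ev (l :: u) 11 = ap l (ev u 11) := rfl
      rw [h4, h3]
      rcases hu l List.mem_cons_self with rfl | rfl | rfl <;> decide +kernel
  exact key _ hw w rfl

/-- `S` is the stabiliser of the point `∞ = 11` -/
theorem mem_S_iff {w : List ℕ} : (w.map v).prod ∈ Subgroup.closure {v 0, v 1, v 2} ↔ ev w 11 = 11 := by
  refine ⟨h.ev_of_mem, fun h1 => ?_⟩
  obtain ⟨s, hs, h2⟩ := h.step_word w (j := 11) (by norm_num)
  rw [h1] at h2
  have h3 : rp v 11 = 1 := by simp [rp]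
  rw [h3, mul_one, one_mul] at h2
  rw [h2]
  exact hs

/-- the letters on the twelve images `rp v j • w` of a point `w` fixed by `S` -/
theorem smul_rp {V : Type*} [MulAction H V] {w : V} (hw : ∀ s ∈ Subgroup.closure {v 0, v 1, v 2}, s • w = w) (l : ℕ)
    {j : ℕ} (hj : j < 12) : v l • (rp v j • w) = rp v (ap l j) • w := by
  obtain ⟨s, hs, h1⟩ := h.step l hj
  rw [← mul_smul, h1, mul_smul, hw s hs]

/-- the twelve images sum up to a fixed point of `H` -/
theorem smul_sum {V : Type*} [AddCommMonoid V] [DistribMulAction H V] {w : V}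
    (hw : ∀ s ∈ Subgroup.closure {v 0, v 1, v 2}, s • w = w) (g : H) :
    g • (∑ j ∈ Finset.range 12, rp v j • w) = ∑ j ∈ Finset.range 12, rp v j • w := by
  have hl : ∀ l, v l • (∑ j ∈ Finset.range 12, rp v j • w) = ∑ j ∈ Finset.range 12, rp v j • w := by
    intro l
    rw [Finset.smul_sum]
    have hinj : ∀ l : Fin 5, ∀ i j : Fin 12, ap l i = ap l j → i = j := by decide +kernel
    have hinj' : ∀ i < 12, ∀ j < 12, ap l i = ap l j → i = j := by
      intro i hi j hj hij
      rcases Nat.lt_or_ge l 5 with h1 | h1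
      · exact congrArg Fin.val (hinj ⟨l, h1⟩ ⟨i, hi⟩ ⟨j, hj⟩ hij)
      · obtain ⟨n, rfl⟩ := Nat.exists_eq_add_of_le' h1
        exact congrArg Fin.val (hinj 4 ⟨i, hi⟩ ⟨j, hj⟩ hij)
    refine Finset.sum_bij (fun j _ => ap l j) (fun j hj => Finset.mem_range.2 (ap_lt l (Finset.mem_range.1 hj)))
      (fun i hi j hj hij => hinj' i (Finset.mem_range.1 hi) j (Finset.mem_range.1 hj) hij) ?_
      (fun j hj => h.smul_rp hw l (Finset.mem_range.1 hj))
    intro b hb
    have hsurj : Function.Surjective (fun i : Fin 12 => (⟨ap l i, ap_lt l i.2⟩ : Fin 12)) :=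
      Finite.injective_iff_surjective.1 (fun i j hij => Fin.ext (hinj' i i.2 j j.2 (congrArg Fin.val hij)))
    obtain ⟨a, ha⟩ := hsurj ⟨b, Finset.mem_range.1 hb⟩
    exact ⟨a, Finset.mem_range.2 a.2, congrArg Fin.val ha⟩
  have hg : g ∈ Subgroup.closure {v 0, v 3} := h.gen2 ▸ Subgroup.mem_top g
  have hle : Subgroup.closure {v 0, v 3} ≤ MulAction.stabilizer H (∑ j ∈ Finset.range 12, rp v j • w) := by
    rw [Subgroup.closure_le]
    rintro a (rfl | rfl)
    · exact hl 0
    · exact hl 3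
  exact hle hg

omit h in
/-- the sum of the twelve images, unfolded -/
theorem sum_eq {V : Type*} [AddCommMonoid V] [DistribMulAction H V] (w : V) :
    ∑ j ∈ Finset.range 12, rp v j • w = (∑ j ∈ Finset.range 11, v 0 ^ j • (v 3 • w)) + w := by
  rw [Finset.sum_range_succ]
  congr 1
  · refine Finset.sum_congr rfl fun j hj => ?_
    rw [rp, if_pos (Finset.mem_range.1 hj), mul_smul]
  · rw [rp, if_neg (by norm_num), one_smul]

end M11Gen

end Cfsg.Agent.H837.E83.NM11
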